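import Groth.Agent.HMNumLib.Translate

/-!
# The numerical function is invariant under the parabolic group of the one-parameter subgroup
-/

set_option linter.all false

universe u

noncomputable section

open CategoryTheory CategoryTheory.Limits MonoidalCategory CartesianMonoidalCategory MonObj AlgebraicGeometry Opposite

namespace Groth.Agent.HMNumLib

variable {S : Scheme.{u}} {G X : Over S} [GrpObj G]

theorem lift_subAct_plus {T : Over S} (u : T ⟶ Red.Gm S) (s : T ⟶ HMNum.A1 S) :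
    lift u s ≫ (Magnet.subAct S ℤ HMNum.plus).act = (u ≫ HMNum.incl S) * s := by
  rw [show (Magnet.subAct S ℤ HMNum.plus) = (Magnet.MonAct.regular (Magnet.AMonS S HMNum.plus)).restrict
      (Magnet.AMonS.map S HMNum.plus.subtype) from rfl, Magnet.MonAct.lift_restrict_act,
    Magnet.MonAct.lift_regular_act]

/-- An extension to the affine line of the conjugates of a section is equivariant. -/
theorem conj_extension [IsSeparated G.hom] (l : Red.Gm S ⟶ G) [IsMonHom l] (g₀ : 𝟙_ (Over S) ⟶ G)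
    (f : HMNum.A1 S ⟶ G) (hf : HMNum.incl S ≫ f = l * (toUnit _ ≫ g₀) * l⁻¹)
    {T : Over S} (u : T ⟶ Red.Gm S) (s : T ⟶ HMNum.A1 S) :
    lift u s ≫ (Magnet.subAct S ℤ HMNum.plus).act ≫ f = (u ≫ l) * (s ≫ f) * (u ≫ l)⁻¹ := by
  let p : HMNum.A1 S ⊗ Red.Gm S ⟶ G := lift (snd _ _) (fst _ _) ≫ (Magnet.subAct S ℤ HMNum.plus).act ≫ f
  let q : HMNum.A1 S ⊗ Red.Gm S ⟶ G := (snd _ _ ≫ l) * (fst _ _ ≫ f) * (snd _ _ ≫ l)⁻¹
  have hpq : p = q := by
    refine Groth.Agent.Magnet.eq_of_map_whiskerRight_eq HMNum.plus.subtype Subtype.val_injective p q ?_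
    apply Magnet.hom_ext_lift₂
    intro T' s t
    simp only [p, q, lift_whiskerRight_assoc, comp_lift_assoc, lift_fst, lift_snd, lift_fst_assoc, lift_snd_assoc,
      MonObj.comp_mul, GrpObj.comp_inv, Category.assoc]
    rw [← Category.assoc (lift t _), lift_subAct_plus, ← MonObj.mul_comp, Category.assoc, hf]
    simp only [MonObj.comp_mul, GrpObj.comp_inv, ← Category.assoc]
    rw [toUnit_unique ((t * s) ≫ toUnit _) (toUnit T'), toUnit_unique (s ≫ toUnit _) (toUnit T'), MonObj.mul_comp]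
    group
  have e := congrArg (fun h => lift s u ≫ h) hpq
  simpa only [p, q, comp_lift_assoc, lift_fst, lift_snd, lift_fst_assoc, lift_snd_assoc,
    MonObj.comp_mul, GrpObj.comp_inv] using e

variable (a : AlgGrp.Action G X) (B : GLinSh.LinBun G a)

theorem isMu_parabolic [IsSeparated G.hom] [IsSeparated X.hom] [Subsingleton S] [Nonempty S]
    (l : Red.Gm S ⟶ G) [IsMonHom l] (g₀ : 𝟙_ (Over S) ⟶ G) (f : HMNum.A1 S ⟶ G)
    (hf : HMNum.incl S ≫ f = l * (toUnit _ ≫ g₀) * l⁻¹)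
    (x : 𝟙_ (Over S) ⟶ X) (m : ℤ) (h : HMNum.IsMu B l x m) :
    HMNum.IsMu B l (lift g₀ x ≫ a.act) m := by
  obtain ⟨y, hy, hw⟩ := h
  have hμy : HMNum.IsMu B l y m := (isMu_iff_of_isLimitPt a B l x y hy m).1 ⟨y, hy, hw⟩
  obtain ⟨φ, hφx, hφy⟩ := hy
  -- the value at the origin commutes with `l`
  have hcomm : l = (toUnit _ ≫ (HMNum.origin S ≫ f))⁻¹ * l * (toUnit _ ≫ (HMNum.origin S ≫ f)) := by
    have e := conj_extension l g₀ f hf (𝟙 (Red.Gm S)) (toUnit _ ≫ HMNum.origin S)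
    rw [← Category.assoc, mul_origin, Category.id_comp, Category.assoc] at e
    generalize toUnit (Red.Gm S) ≫ HMNum.origin S ≫ f = c at e ⊢
    have e2 : c * l = l * c := by rwa [eq_mul_inv_iff_mul_eq] at e
    rw [_root_.mul_assoc, ← e2, inv_mul_cancel_left]
  have hμy' : HMNum.IsMu B l (lift (HMNum.origin S ≫ f) y ≫ a.act) m :=
    (isMu_act_iff a B (HMNum.origin S ≫ f) l l hcomm y m).2 hμy
  refine (isMu_iff_of_isLimitPt a B l _ _ ?_ m).2 hμy'
  refine ⟨⟨lift (fst _ _ ≫ f) φ.1 ≫ a.act, ?_⟩, ?_, ?_⟩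
  · refine (Magnet.MonAct.mem_eqvHom_iff _).2 fun T' u b t => ?_
    simp only [comp_lift_assoc, lift_fst_assoc, Magnet.MonAct.lift_restrict_act, Magnet.MonAct.ofAction_act]
    have hφ := (Magnet.MonAct.mem_eqvHom_iff φ.1).1 φ.2 T' u b t
    rw [Magnet.MonAct.lift_restrict_act, Magnet.MonAct.ofAction_act] at hφ
    rw [hφ, Category.assoc (lift u b), conj_extension l g₀ f hf u b, ← lift_mul_act, ← lift_mul_act,
      inv_mul_cancel_right]
  · change lift (toUnit _ ≫ η[HMNum.A1 S]) (𝟙 (𝟙_ (Over S))) ≫ lift (fst _ _ ≫ f) φ.1 ≫ a.act = _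
    have hx' : lift (toUnit _ ≫ η[HMNum.A1 S]) (𝟙 (𝟙_ (Over S))) ≫ φ.1 = x := hφx
    rw [comp_lift_assoc, lift_fst_assoc, hx']
    have h1 : (toUnit (𝟙_ (Over S)) ≫ η[HMNum.A1 S]) ≫ f = g₀ := by
      have h2 : toUnit (𝟙_ (Over S)) ≫ η[HMNum.A1 S] = (1 : 𝟙_ (Over S) ⟶ Red.Gm S) ≫ HMNum.incl S := by
        rw [MonObj.one_comp, Hom.one_def]
      rw [h2, Category.assoc, hf]
      simp only [MonObj.comp_mul, GrpObj.comp_inv, MonObj.one_comp]
      rw [← Category.assoc, toUnit_unique ((1 : 𝟙_ (Over S) ⟶ Red.Gm S) ≫ toUnit _) (𝟙 _), Category.id_comp]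
      group
    rw [h1]
  · rw [HMNum.limitPt_eq, ← hφy, HMNum.limitPt_eq]
    rw [comp_lift_assoc, lift_fst_assoc, Category.assoc, toUnit_unique (toUnit (𝟙_ (Over S))) (𝟙 _),
      Category.id_comp]

theorem isMu_parabolic_iff [IsSeparated G.hom] [IsSeparated X.hom] [Subsingleton S] [Nonempty S]
    (l : Red.Gm S ⟶ G) [IsMonHom l] (g₀ : 𝟙_ (Over S) ⟶ G) (f : HMNum.A1 S ⟶ G)
    (hf : HMNum.incl S ≫ f = l * (toUnit _ ≫ g₀) * l⁻¹) (x : 𝟙_ (Over S) ⟶ X) (m : ℤ) :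
    HMNum.IsMu B l (lift g₀ x ≫ a.act) m ↔ HMNum.IsMu B l x m := by
  refine ⟨fun h => ?_, isMu_parabolic a B l g₀ f hf x m⟩
  have hf' : HMNum.incl S ≫ f⁻¹ = l * (toUnit _ ≫ g₀⁻¹) * l⁻¹ := by
    rw [GrpObj.comp_inv, hf, GrpObj.comp_inv]
    group
  have h2 := isMu_parabolic a B l g₀⁻¹ f⁻¹ hf' _ m h
  rwa [← lift_mul_act, inv_mul_cancel, lift_one_act] at h2

end Groth.Agent.HMNumLib
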