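import Groth.Prelude.Def_HMNum
import Groth.Agent.Magnet.Chart
import Groth.Agent.Magnet.FaceOrigin

/-!
# The numerical function under translation by group points and at limit points
-/

set_option linter.all false

universe u

noncomputable section

open CategoryTheory CategoryTheory.Limits MonoidalCategory CartesianMonoidalCategory MonObj AlgebraicGeometry Opposite

namespace Groth.Agent.HMNumLib

variable {S : Scheme.{u}} {G X : Over S} [GrpObj G] (a : AlgGrp.Action G X)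

theorem lift_one_act {T : Over S} (x : T ⟶ X) : lift (1 : T ⟶ G) x ≫ a.act = x :=
  (Magnet.MonAct.ofAction a).lift_one_act x

theorem lift_mul_act {T : Over S} (g h : T ⟶ G) (x : T ⟶ X) :
    lift (g * h) x ≫ a.act = lift g (lift h x ≫ a.act) ≫ a.act :=
  (Magnet.MonAct.ofAction a).lift_mul_act g h x

/-- Translation by a section. -/
def trans (g : 𝟙_ (Over S) ⟶ G) : X ⟶ X := lift (toUnit X ≫ g) (𝟙 X) ≫ a.act

theorem comp_trans (g : 𝟙_ (Over S) ⟶ G) {T : Over S} (x : T ⟶ X) :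
    x ≫ trans a g = lift (toUnit T ≫ g) x ≫ a.act := by
  rw [trans, comp_lift_assoc, Category.comp_id, ← Category.assoc x (toUnit X), toUnit_unique (x ≫ toUnit X) (toUnit T)]

theorem comp_conj {T : Over S} (g : 𝟙_ (Over S) ⟶ G) (l l' : Red.Gm S ⟶ G)
    (hl' : l' = (toUnit _ ≫ g)⁻¹ * l * (toUnit _ ≫ g)) (u : T ⟶ Red.Gm S) :
    u ≫ l' = (toUnit T ≫ g)⁻¹ * (u ≫ l) * (toUnit T ≫ g) := by
  rw [hl', MonObj.comp_mul, MonObj.comp_mul, GrpObj.comp_inv, ← Category.assoc, toUnit_unique (u ≫ toUnit _) (toUnit T)]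

theorem isEquivariant_trans (g : 𝟙_ (Over S) ⟶ G) (l l' : Red.Gm S ⟶ G) [IsMonHom l] [IsMonHom l']
    (hl' : l' = (toUnit _ ≫ g)⁻¹ * l * (toUnit _ ≫ g)) :
    Magnet.MonAct.IsEquivariant (HMNum.gmAct a l') (HMNum.gmAct a l) (trans a g) := by
  rw [Magnet.MonAct.isEquivariant_iff]
  intro T u x
  rw [← Category.assoc, comp_trans, comp_trans, Magnet.MonAct.lift_restrict_act, Magnet.MonAct.lift_restrict_act,
    Magnet.MonAct.ofAction_act, ← lift_mul_act, ← lift_mul_act, comp_conj g l l' hl' u, _root_.mul_assoc, mul_inv_cancel_left]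

theorem isLimitPt_trans (g : 𝟙_ (Over S) ⟶ G) (l l' : Red.Gm S ⟶ G) [IsMonHom l] [IsMonHom l']
    (hl' : l' = (toUnit _ ≫ g)⁻¹ * l * (toUnit _ ≫ g)) {T : Over S} (x y : T ⟶ X)
    (h : HMNum.IsLimitPt a l' x y) :
    HMNum.IsLimitPt a l (x ≫ trans a g) (y ≫ trans a g) := by
  obtain ⟨φ, hx, hy⟩ := h
  refine ⟨⟨φ.1 ≫ trans a g, φ.2.comp (isEquivariant_trans a g l l' hl')⟩, ?_, ?_⟩
  · rw [← hx]
    change lift _ _ ≫ φ.1 ≫ _ = (lift _ _ ≫ φ.1) ≫ _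
    rw [Category.assoc]
  · rw [← hy, HMNum.limitPt_eq, HMNum.limitPt_eq, Category.assoc]

theorem isFixedBy_trans (g : 𝟙_ (Over S) ⟶ G) (l l' : Red.Gm S ⟶ G) [IsMonHom l] [IsMonHom l']
    (hl' : l' = (toUnit _ ≫ g)⁻¹ * l * (toUnit _ ≫ g)) {T : Over S} (x : T ⟶ X)
    (h : HMNum.IsFixedBy a l' x) : HMNum.IsFixedBy a l (x ≫ trans a g) := by
  intro T' t u
  have h1 := (Magnet.MonAct.isEquivariant_iff _ _ _).1 (isEquivariant_trans a g l l' hl') T' u (t ≫ x)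
  rw [← Category.assoc, Magnet.MonAct.lift_restrict_act, Magnet.MonAct.lift_restrict_act,
    Magnet.MonAct.ofAction_act, h T' t u] at h1
  rw [← Category.assoc t]
  exact h1.symm

/-- Evaluation of a function on an open at a point of it, as a ring homomorphism. -/
abbrev ev {W : Over S} {O : W.left.Opens} {T : Over S} (w : T ⟶ W) (h : ⊤ ≤ w.left ⁻¹ᵁ O) :
    Γ(W.left, O) ⟶ Γ(T.left, ⊤) :=
  w.left.appLE O ⊤ h

theorem ev_comp {W W' : Over S} {O : W.left.Opens} {O' : W'.left.Opens} {T : Over S} (w : T ⟶ W)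
    (f : W ⟶ W') (v : T ⟶ W') (hv : w ≫ f = v) (h : ⊤ ≤ w.left ⁻¹ᵁ O) (hf : O ≤ f.left ⁻¹ᵁ O')
    (h' : ⊤ ≤ v.left ⁻¹ᵁ O') (s : Γ(W'.left, O')) :
    ev w h (f.left.appLE O' O hf s) = ev v h' s := by
  subst hv
  exact ConcreteCategory.congr_hom (Scheme.Hom.appLE_comp_appLE w.left f.left O' O ⊤ hf h) s

variable (B : GLinSh.LinBun G a)

/-- The fibre weight is transported by translation. -/
theorem hasFibreWeight_trans (g : 𝟙_ (Over S) ⟶ G) (l l' : Red.Gm S ⟶ G) [IsMonHom l] [IsMonHom l']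
    (hl' : l' = (toUnit _ ≫ g)⁻¹ * l * (toUnit _ ≫ g)) {T : Over S} (x : T ⟶ X) (w : ℤ)
    (U' : X.left.Opens) (hU'ne : (B.atlas.chart U').Nonempty) (hU' : (x ≫ trans a g).left ⁻¹ᵁ U' = ⊤)
    (h : HMNum.HasFibreWeight B l' x w) : HMNum.HasFibreWeight B l (x ≫ trans a g) w := by
  obtain ⟨hfix, U, y, hy, hU, hw⟩ := h
  obtain ⟨y', hy'⟩ := hU'ne
  refine ⟨isFixedBy_trans a g l l' hl' x hfix, U', y', hy', hU', fun T' t u v hv hgv => ?_⟩
  obtain ⟨c, hc⟩ := B.lift_linear U U' y y' hy hy'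
  set v₀ := lift (toUnit T' ≫ g)⁻¹ v ≫ B.lift.act with hv₀
  have hπact : ∀ (h : T' ⟶ G) (z : T' ⟶ B.V), (lift h z ≫ B.lift.act) ≫ B.π = lift h (z ≫ B.π) ≫ a.act := by
    intro h z
    rw [Category.assoc, B.lift_π, lift_whiskerLeft_assoc]
  have hback : v = lift (toUnit T' ≫ g) v₀ ≫ B.lift.act := by
    rw [hv₀, ← lift_mul_act B.lift, mul_inv_cancel, lift_one_act]
  have hv₀π : v₀ ≫ B.π = t ≫ x := by
    rw [hv₀, hπact, hv, ← Category.assoc t, comp_trans, ← lift_mul_act, inv_mul_cancel, lift_one_act]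
  set v₁ := lift (u ≫ l') v₀ ≫ B.lift.act with hv₁
  have hv₁π : v₁ ≫ B.π = t ≫ x := by
    rw [hv₁, hπact, hv₀π, hfix T' t u]
  have hgv' : lift (u ≫ l) v ≫ B.lift.act = lift (toUnit T' ≫ g) v₁ ≫ B.lift.act := by
    rw [hv₁, ← lift_mul_act B.lift, hv₀, ← lift_mul_act B.lift, comp_conj g l l' hl' u]
    congr 2
    group
  have key := hw T' t u v₀ hv₀π hv₁π
  let p := lift (toUnit T' ≫ g) (t ≫ x)
  have hpact : p ≫ a.act = t ≫ (x ≫ trans a g) := by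
    rw [← Category.assoc, comp_trans]
  have hp : ⊤ ≤ p.left ⁻¹ᵁ (a.act.left ⁻¹ᵁ U' ⊓ (snd G X).left ⁻¹ᵁ U) := by
    rw [Scheme.Hom.preimage_inf]
    refine le_inf ?_ ?_
    · change ⊤ ≤ (p ≫ a.act).left ⁻¹ᵁ U'
      rw [hpact]
      change ⊤ ≤ t.left ⁻¹ᵁ ((x ≫ trans a g).left ⁻¹ᵁ U')
      rw [hU']
      exact le_of_eq rfl
    · change ⊤ ≤ (p ≫ snd G X).left ⁻¹ᵁ U
      rw [lift_snd]
      change ⊤ ≤ t.left ⁻¹ᵁ (x.left ⁻¹ᵁ U)
      rw [hU]
      exact le_of_eq rfl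
  have main : ∀ (z : T' ⟶ B.V) (hz : z ≫ B.π = t ≫ x)
      (hzv : (lift (toUnit T' ≫ g) z ≫ B.lift.act) ≫ B.π = t ≫ (x ≫ trans a g)),
      HMNum.evalFn B.π y' (lift (toUnit T' ≫ g) z ≫ B.lift.act) (HMNum.top_le_preimage B.π hU' hzv) =
        ev p hp c * HMNum.evalFn B.π y z (HMNum.top_le_preimage B.π hU hz) := by
    intro z hz hzv
    let q := lift (toUnit T' ≫ g) z
    have hqb : q ≫ (G ◁ B.π) = p := by rw [lift_whiskerLeft, hz]
    have hq : ⊤ ≤ q.left ⁻¹ᵁ GLinSh.liftOpen a B.π U U' := by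
      change ⊤ ≤ (q ≫ (G ◁ B.π)).left ⁻¹ᵁ (a.act.left ⁻¹ᵁ U' ⊓ (snd G X).left ⁻¹ᵁ U)
      rw [hqb]
      exact hp
    have hq' := congrArg (ev q hq) hc
    rw [map_mul, ev_comp q (G ◁ B.π) p hqb hq _ hp c,
      ev_comp q (snd G B.V) z (lift_snd _ _) hq _ (HMNum.top_le_preimage B.π hU hz) y,
      ev_comp q B.lift.act (q ≫ B.lift.act) rfl hq _ (HMNum.top_le_preimage B.π hU' hzv) y'] at hq'
    exact hq'
  have hv₁v : (lift (toUnit T' ≫ g) v₁ ≫ B.lift.act) ≫ B.π = t ≫ (x ≫ trans a g) := hgv' ▸ hgv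
  have hv₀v : (lift (toUnit T' ≫ g) v₀ ≫ B.lift.act) ≫ B.π = t ≫ (x ≫ trans a g) := hback ▸ hv
  have e1 : HMNum.evalFn B.π y' (lift (u ≫ l) v ≫ B.lift.act) (HMNum.top_le_preimage B.π hU' hgv) =
      HMNum.evalFn B.π y' (lift (toUnit T' ≫ g) v₁ ≫ B.lift.act) (HMNum.top_le_preimage B.π hU' hv₁v) := by
    congr 1
  have e2 : HMNum.evalFn B.π y' v (HMNum.top_le_preimage B.π hU' hv) =
      HMNum.evalFn B.π y' (lift (toUnit T' ≫ g) v₀ ≫ B.lift.act) (HMNum.top_le_preimage B.π hU' hv₀v) := by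
    congr 1
  rw [e1, e2, main v₁ hv₁π hv₁v, main v₀ hv₀π hv₀v, key]
  ring

theorem exists_chart_of_subsingleton {T : Over S} [Subsingleton T.left] [Nonempty T.left] (x : T ⟶ X) :
    ∃ U : X.left.Opens, (B.atlas.chart U).Nonempty ∧ x.left ⁻¹ᵁ U = ⊤ := by
  obtain ⟨t⟩ := ‹Nonempty T.left›
  obtain ⟨U, hmem, hne⟩ := B.atlas.cover (x.left.base t)
  refine ⟨U, hne, eq_top_iff.2 fun t' _ => ?_⟩
  rw [Subsingleton.elim t' t]
  exact hmem

theorem isMu_trans (g : 𝟙_ (Over S) ⟶ G) (l l' : Red.Gm S ⟶ G) [IsMonHom l] [IsMonHom l']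
    (hl' : l' = (toUnit _ ≫ g)⁻¹ * l * (toUnit _ ≫ g)) {T : Over S} [Subsingleton T.left] [Nonempty T.left]
    (x : T ⟶ X) (m : ℤ) (h : HMNum.IsMu B l' x m) : HMNum.IsMu B l (x ≫ trans a g) m := by
  obtain ⟨y, hy, hw⟩ := h
  obtain ⟨U', hne, hU'⟩ := exists_chart_of_subsingleton a B (y ≫ trans a g)
  exact ⟨y ≫ trans a g, isLimitPt_trans a g l l' hl' x y hy,
    hasFibreWeight_trans a B g l l' hl' y (-m) U' hne hU' hw⟩

theorem isMu_act_iff (g : 𝟙_ (Over S) ⟶ G) (l l' : Red.Gm S ⟶ G) [IsMonHom l] [IsMonHom l']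
    (hl' : l' = (toUnit _ ≫ g)⁻¹ * l * (toUnit _ ≫ g)) [Subsingleton S] [Nonempty S]
    (x : 𝟙_ (Over S) ⟶ X) (m : ℤ) :
    HMNum.IsMu B l (lift g x ≫ a.act) m ↔ HMNum.IsMu B l' x m := by
  haveI : Subsingleton (𝟙_ (Over S)).left := ‹Subsingleton S›
  haveI : Nonempty (𝟙_ (Over S)).left := ‹Nonempty S›
  have hx : x ≫ trans a g = lift g x ≫ a.act := by
    rw [comp_trans, toUnit_unique (toUnit (𝟙_ (Over S))) (𝟙 _), Category.id_comp]
  constructor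
  · intro h
    have hl : l = (toUnit _ ≫ g⁻¹)⁻¹ * l' * (toUnit _ ≫ g⁻¹) := by
      rw [GrpObj.comp_inv, hl']
      group
    have h2 := isMu_trans a B g⁻¹ l' l hl _ m h
    rwa [comp_trans, toUnit_unique (toUnit (𝟙_ (Over S))) (𝟙 _), Category.id_comp, ← lift_mul_act,
      inv_mul_cancel, lift_one_act] at h2
  · intro h
    rw [← hx]
    exact isMu_trans a B g l l' hl' x m h

/-! ### Limit points -/

theorem isLimitPt_unique [IsSeparated X.hom] (l : Red.Gm S ⟶ G) [IsMonHom l] {T : Over S} (x y y' : T ⟶ X)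
    (h : HMNum.IsLimitPt a l x y) (h' : HMNum.IsLimitPt a l x y') : y = y' := by
  obtain ⟨φ, hx, hy⟩ := h
  obtain ⟨φ', hx', hy'⟩ := h'
  have : φ = φ' := Groth.Agent.Magnet.attrToX_injective (HMNum.gmAct a l) HMNum.plus T (hx.trans hx'.symm)
  rw [← hy, ← hy', this]

open Groth.Agent.Magnet in
theorem mul_origin {T : Over S} (u : T ⟶ Red.Gm S) :
    lift u (toUnit T ≫ HMNum.origin S) ≫ (Magnet.subAct S ℤ HMNum.plus).act = toUnit T ≫ HMNum.origin S := by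
  rw [show (Magnet.subAct S ℤ HMNum.plus) = (Magnet.MonAct.regular (Magnet.AMonS S HMNum.plus)).restrict
      (Magnet.AMonS.map S HMNum.plus.subtype) from rfl, Magnet.MonAct.lift_restrict_act,
    Magnet.MonAct.lift_regular_act]
  apply points_ext
  intro n
  rw [map_mul, MonoidHom.mul_apply]
  have ho : points (toUnit T ≫ HMNum.origin S) n = if (Multiplicative.toAdd n : HMNum.plus).1 = 0 then 1 else 0 := by
    rw [HMNum.origin, ← Category.assoc, ← Hom.one_def, points_faceMap]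
    split_ifs with h1 h2 h2
    · rw [map_one]; rfl
    · exact absurd (AddSubmonoid.mem_bot.1 h1) h2
    · exact absurd (AddSubmonoid.mem_bot.2 h2) h1
    · rfl
  rw [ho]
  split_ifs with h
  · rw [_root_.mul_one, points_map, MonoidHom.comp_apply]
    have hn : n = 1 := Multiplicative.toAdd.injective (Subtype.ext h)
    subst hn
    rw [map_one, map_one]
  · rw [MulZeroClass.mul_zero]

theorem isFixedBy_limit (l : Red.Gm S ⟶ G) [IsMonHom l] {T : Over S} (x y : T ⟶ X)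
    (h : HMNum.IsLimitPt a l x y) : HMNum.IsFixedBy a l y := by
  obtain ⟨φ, -, hy⟩ := h
  rw [HMNum.isFixedBy_iff, ← hy, HMNum.limitPt_eq]
  intro T' t u
  have ht : t ≫ lift (toUnit T ≫ HMNum.origin S) (𝟙 T) ≫ φ.1 = lift (toUnit T' ≫ HMNum.origin S) t ≫ φ.1 := by
    rw [comp_lift_assoc, Category.comp_id, ← Category.assoc, toUnit_unique (t ≫ toUnit T) (toUnit T')]
  have h1 := (Magnet.MonAct.mem_eqvHom_iff φ.1).1 φ.2 T' u (toUnit T' ≫ HMNum.origin S) t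
  rw [mul_origin] at h1
  rw [ht]
  exact h1.symm

theorem isLimitPt_self (l : Red.Gm S ⟶ G) [IsMonHom l] {T : Over S} (y : T ⟶ X)
    (h : HMNum.IsFixedBy a l y) : HMNum.IsLimitPt a l y y := by
  rw [HMNum.isFixedBy_iff] at h
  refine ⟨⟨snd _ _ ≫ y, ?_⟩, ?_, ?_⟩
  · refine (Magnet.MonAct.mem_eqvHom_iff _).2 fun T' g b t => ?_
    simp only [lift_snd_assoc]
    exact (h T' t g).symm
  · change lift _ _ ≫ snd _ _ ≫ y = y
    rw [lift_snd_assoc, Category.id_comp]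
  · rw [HMNum.limitPt_eq]
    change lift _ _ ≫ snd _ _ ≫ y = y
    rw [lift_snd_assoc, Category.id_comp]

theorem isMu_iff_of_isLimitPt [IsSeparated X.hom] (l : Red.Gm S ⟶ G) [IsMonHom l] {T : Over S} (x y : T ⟶ X)
    (hy : HMNum.IsLimitPt a l x y) (m : ℤ) : HMNum.IsMu B l x m ↔ HMNum.IsMu B l y m := by
  have hself := isLimitPt_self a l y (isFixedBy_limit a l x y hy)
  constructor
  · rintro ⟨z, hz, hw⟩
    obtain rfl := isLimitPt_unique a l x y z hy hz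
    exact ⟨y, hself, hw⟩
  · rintro ⟨z, hz, hw⟩
    obtain rfl := isLimitPt_unique a l y y z hself hz
    exact ⟨y, hy, hw⟩

end Groth.Agent.HMNumLib
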